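import Mathlib
import Groth.Agent.Variety2.DimAffine

/-! Dimension of finitely generated algebras via algebraically independent families, graded
generators, monomial maps. Author: helper54. -/

set_option autoImplicit false
universe u

open MvPolynomial

namespace Groth.GrSegreDim

/-- A monomial map is injective if the exponent map is. -/
lemma aeval_monomial_injective {k : Type*} [Field k] {σ τ : Type*} (M : σ → τ →₀ ℕ)
    (hM : Function.Injective fun d : σ →₀ ℕ => d.sum fun i e => e • M i) :
    Function.Injective (aeval (R := k) fun i => monomial (M i) (1 : k)) := by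
  classical
  have h1 : ∀ d c, aeval (R := k) (fun i => monomial (M i) (1 : k)) (monomial d c) =
      monomial (d.sum fun i e => e • M i) c := fun d c => by
    rw [aeval_monomial, Finsupp.sum, monomial_sum_index, algebraMap_eq]
    simp [Finsupp.prod, monomial_pow]
  rw [injective_iff_map_eq_zero]
  intro F hF
  ext d
  have h2 := congrArg (coeff (d.sum fun i e => e • M i)) hF
  rw [F.as_sum, map_sum] at h2
  simp only [h1, coeff_sum, coeff_monomial, coeff_zero] at h2 ⊢
  rw [Finset.sum_eq_single d (fun e _ he => if_neg fun h => he (hM h)) fun h => by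
    simp [MvPolynomial.notMem_support_iff.mp h]] at h2
  simpa using h2

variable (k : Type u) [Field k]

lemma indep_comp {A B : Type u} [CommRing A] [CommRing B] [Algebra k A] [Algebra k B] {ι : Type*}
    {x : ι → A} (hx : AlgebraicIndependent k x) (f : A →ₐ[k] B) (hf : Function.Injective f) :
    AlgebraicIndependent k fun i => f (x i) :=
  hx.map' hf

/-- An independent family stays independent modulo some minimal prime. -/
lemma exists_minimalPrime_indep (B : Type u) [CommRing B] [Algebra k B] [IsNoetherianRing B]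
    [Nontrivial B] {ι : Type u} (x : ι → B) (hx : AlgebraicIndependent k x) :
    ∃ P : Ideal B, P.IsPrime ∧ AlgebraicIndependent k fun i => Ideal.Quotient.mkₐ k P (x i) := by
  classical
  by_contra! hcon
  have hfin : (minimalPrimes B).Finite := minimalPrimes.finite_of_isNoetherianRing B
  have h : ∀ P ∈ hfin.toFinset, ∃ F : MvPolynomial ι k, F ≠ 0 ∧ aeval x F ∈ P := by
    intro P hP
    have hp : P.IsPrime := Ideal.minimalPrimes_isPrime (hfin.mem_toFinset.mp hP)
    have := hcon P hp
    rw [algebraicIndependent_iff] at this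
    push Not at this
    obtain ⟨F, hF, hF0⟩ := this
    refine ⟨F, hF0, Ideal.Quotient.eq_zero_iff_mem.mp ?_⟩
    rw [← Ideal.Quotient.mkₐ_eq_mk k, ← AlgHom.comp_apply, comp_aeval]
    exact hF
  choose F hF0 hF using h
  let G := ∏ P ∈ hfin.toFinset.attach, F P.1 P.2
  have hG : G ≠ 0 := Finset.prod_ne_zero_iff.mpr fun P _ => hF0 _ _
  have hnil : IsNilpotent (aeval x G) := by
    rw [← mem_nilradical, nilradical, ← Ideal.sInf_minimalPrimes, Submodule.mem_sInf]
    intro P hP
    rw [map_prod]
    exact Ideal.mem_of_dvd P (Finset.dvd_prod_of_mem _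
      (Finset.mem_attach _ ⟨P, hfin.mem_toFinset.mpr hP⟩)) (hF _ _)
  obtain ⟨n, hn⟩ := hnil
  rw [← map_pow] at hn
  exact hG (pow_eq_zero_iff'.mp (algebraicIndependent_iff.mp hx _ hn)).1

/-- An independent family has at most `dim B` elements. -/
lemma card_le_dim (B : Type u) [CommRing B] [Algebra k B] [Algebra.FiniteType k B] [Nontrivial B]
    {ι : Type u} [Fintype ι] (x : ι → B) (hx : AlgebraicIndependent k x) :
    (Fintype.card ι : WithBot ℕ∞) ≤ ringKrullDim B := by
  have : IsNoetherianRing B := Algebra.FiniteType.isNoetherianRing k B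
  obtain ⟨P, hP, hxP⟩ := exists_minimalPrime_indep k B x hx
  obtain ⟨n, htr, hdim, -⟩ := Groth.Variety2.Dim.exists_dim k (B ⧸ P)
  have h1 := (hxP.map' (f := IsScalarTower.toAlgHom k (B ⧸ P) (FractionRing (B ⧸ P)))
    (IsFractionRing.injective _ _)).cardinalMk_le_trdeg
  rw [htr, Cardinal.mk_fintype, Nat.cast_le] at h1
  calc (Fintype.card ι : WithBot ℕ∞) ≤ n := by exact_mod_cast h1
    _ = ringKrullDim (B ⧸ P) := hdim.symm
    _ ≤ ringKrullDim B := ringKrullDim_le_of_surjective _ Ideal.Quotient.mk_surjective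

/-- There are `dim B` independent elements. -/
lemma exists_indep_dim (B : Type u) [CommRing B] [Algebra k B] [Algebra.FiniteType k B] [Nontrivial B] :
    ∃ (n : ℕ) (g : MvPolynomial (Fin n) k →ₐ[k] B), Function.Injective g ∧ g.IsIntegral ∧
      ringKrullDim B = n := by
  obtain ⟨n, g, hinj, hint⟩ := exists_integral_inj_algHom_of_fg k B
  refine ⟨n, g, hinj, hint, ?_⟩
  algebraize [g.toRingHom]
  have : Algebra.IsIntegral (MvPolynomial (Fin n) k) B := ⟨hint⟩
  rw [Groth.Variety2.Dim.ringKrullDim_eq_of_isIntegral (MvPolynomial (Fin n) k) B hinj,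
    MvPolynomial.ringKrullDim_of_isNoetherianRing, ringKrullDim_eq_zero_of_field]
  simp

section Graded

variable {k} {R : Type u} [CommRing R] [Algebra k R] (𝒜 : ℤ → Submodule k R) [GradedAlgebra 𝒜]

lemma exists_homogeneous_gens (hpos : ∀ n : ℤ, n < 0 → 𝒜 n = ⊥)
    (h0 : 𝒜 0 = Submodule.span k {(1 : R)}) [Algebra.FiniteType k R] :
    ∃ (a : ℕ) (g : Fin a → R) (n : Fin a → ℕ), (∀ i, 0 < n i) ∧ (∀ i, g i ∈ 𝒜 (n i)) ∧
      Algebra.adjoin k (Set.range g) = ⊤ := by
  classical
  obtain ⟨F, hF⟩ := Algebra.FiniteType.out (R := k) (A := R)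
  let I := Σ f : F, {i : ℤ // i ∈ (DirectSum.decompose 𝒜 (f : R)).support ∧ 0 < i}
  have : Finite I := by
    refine @Finite.instSigma _ _ _ fun f => ?_
    exact Finite.of_injective (fun i => (⟨i.1, i.2.1⟩ :
      (DirectSum.decompose 𝒜 (f : R)).support)) fun a b h => Subtype.ext (congrArg Subtype.val h :)
  obtain ⟨a, ⟨e⟩⟩ := Finite.exists_equiv_fin I
  let g : Fin a → R := fun i =>
    (DirectSum.decompose 𝒜 ((e.symm i).1 : R) (e.symm i).2.1 : R)
  refine ⟨a, g, fun i => (e.symm i).2.1.toNat,
    fun i => by simpa using (e.symm i).2.2.2, fun i => ?_, ?_⟩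
  · rw [Int.toNat_of_nonneg (e.symm i).2.2.2.le]
    exact SetLike.coe_mem _
  · rw [eq_top_iff, ← hF, Algebra.adjoin_le_iff]
    intro f hf
    rw [SetLike.mem_coe, ← DirectSum.sum_support_decompose 𝒜 f]
    refine Subalgebra.sum_mem _ fun i hi => ?_
    rcases lt_trichotomy i 0 with h | h | h
    · have hz := (DirectSum.decompose 𝒜 f i).2
      rw [(Submodule.mem_bot k).mp ((SetLike.ext_iff.mp (hpos i h) _).mp hz)]; exact zero_mem _
    · subst h
      have hz := (DirectSum.decompose 𝒜 f 0).2
      obtain ⟨c, hc⟩ := Submodule.mem_span_singleton.mp ((SetLike.ext_iff.mp h0 _).mp hz)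
      rw [← hc]
      exact Subalgebra.smul_mem _ (one_mem _) c
    · exact Algebra.subset_adjoin ⟨e ⟨⟨f, hf⟩, i, hi, h⟩, by
        simp only [g]; rw [Equiv.symm_apply_apply]⟩

/-- `dim R` homogeneous independent elements of one common positive degree. -/
lemma exists_homogeneous_indep (hpos : ∀ n : ℤ, n < 0 → 𝒜 n = ⊥)
    (h0 : 𝒜 0 = Submodule.span k {(1 : R)}) [Algebra.FiniteType k R] [Nontrivial R] (r : ℕ)
    (hr : ringKrullDim R = r) :
    ∃ N : ℕ, 0 < N ∧ ∀ M : ℕ, N ∣ M → 0 < M →
      ∃ x : Fin r → R, (∀ i, x i ∈ 𝒜 M) ∧ AlgebraicIndependent k x := by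
  classical
  obtain ⟨a, g, n, hn, hg, hgen⟩ := exists_homogeneous_gens 𝒜 hpos h0
  obtain ⟨m, φ, hφ, -, hm⟩ := exists_indep_dim k R
  have hmr : m = r := by rw [hr] at hm; exact_mod_cast hm.symm
  subst hmr
  have : IsNoetherianRing R := Algebra.FiniteType.isNoetherianRing k R
  have hxi : AlgebraicIndependent k fun i : ULift.{u} (Fin m) => φ (X i.down) :=
    ((algebraicIndependent_X (Fin m) k).map' hφ).comp _ ULift.down_injective
  obtain ⟨P, hP, hxP⟩ := exists_minimalPrime_indep k R _ hxi
  let L := FractionRing (R ⧸ P)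
  let π : R →ₐ[k] L := (IsScalarTower.toAlgHom k (R ⧸ P) L).comp (Ideal.Quotient.mkₐ k P)
  have htr : (m : Cardinal) ≤ Algebra.trdeg k L := by
    have h := (hxP.map' (f := IsScalarTower.toAlgHom k (R ⧸ P) L)
      (IsFractionRing.injective _ _)).cardinalMk_le_trdeg
    simpa using h
  have : Algebra.IsAlgebraic (Algebra.adjoin k (Set.range fun i => π (g i))) L := by
    have hA : Algebra.adjoin k (Set.range fun i => π (g i)) = π.range := by
      rw [← Algebra.map_top π, ← hgen, AlgHom.map_adjoin, ← Set.range_comp]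
      rfl
    rw [hA]
    refine ⟨fun z => ?_⟩
    obtain ⟨p, q, hq, rfl⟩ := IsFractionRing.div_surjective (A := R ⧸ P) z
    obtain ⟨p, rfl⟩ := Ideal.Quotient.mk_surjective p
    obtain ⟨q, rfl⟩ := Ideal.Quotient.mk_surjective q
    change IsAlgebraic π.range (π p / π q)
    rw [div_eq_mul_inv]
    exact (isAlgebraic_algebraMap (⟨π p, p, rfl⟩ : π.range)).mul
      (isAlgebraic_algebraMap (⟨π q, q, rfl⟩ : π.range)).inv
  obtain ⟨t, hts, ht⟩ := exists_isTranscendenceBasis_subset (R := k)
    (Set.range fun i => π (g i))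
  have hcard : (m : Cardinal) ≤ Cardinal.mk t := htr.trans ht.cardinalMk_eq_trdeg.ge
  have : Finite t := ((Set.finite_range _).subset hts).to_subtype
  have := Fintype.ofFinite t
  obtain ⟨emb⟩ : Nonempty (Fin m ↪ t) := Function.Embedding.nonempty_of_card_le (by
    rw [Cardinal.mk_fintype, Nat.cast_le] at hcard; simpa using hcard)
  choose ix hix using fun z : t => hts z.2
  refine ⟨∏ i, n i, Finset.prod_pos fun i _ => hn i, fun M hM hM0 => ?_⟩
  refine ⟨fun j => g (ix (emb j)) ^ (M / n (ix (emb j))), fun j => ?_, ?_⟩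
  · have hdvd : n (ix (emb j)) ∣ M := (Finset.dvd_prod_of_mem n (Finset.mem_univ _)).trans hM
    have := SetLike.pow_mem_graded (M / n (ix (emb j))) (hg (ix (emb j)))
    rwa [nsmul_eq_mul, ← Nat.cast_mul, Nat.div_mul_cancel hdvd] at this
  · have hind : AlgebraicIndependent k fun j => g (ix (emb j)) := by
      refine AlgebraicIndependent.of_comp π ?_
      have h := ht.1.comp emb emb.injective
      convert h using 1
      funext j; exact hix (emb j)
    rw [algebraicIndependent_iff_injective_aeval]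
    let e : Fin m → ℕ := fun j => M / n (ix (emb j))
    have he : ∀ j, 0 < e j := fun j => Nat.div_pos
      (Nat.le_of_dvd hM0 ((Finset.dvd_prod_of_mem n (Finset.mem_univ _)).trans hM)) (hn _)
    have : aeval (fun j => g (ix (emb j)) ^ e j) =
        (aeval fun j => g (ix (emb j))).comp
          (aeval (R := k) fun j => monomial (Finsupp.single j (e j)) (1 : k)) := by
      refine MvPolynomial.algHom_ext fun j => ?_
      simp [← X_pow_eq_monomial]
    rw [this, AlgHom.coe_comp]
    refine (algebraicIndependent_iff_injective_aeval.mp hind).comp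
      (aeval_monomial_injective _ fun d d' h => ?_)
    ext j
    have h' := DFunLike.congr_fun h j
    simp only [Finsupp.smul_single, smul_eq_mul] at h'
    rw [Finsupp.sum_fintype _ _ (by simp), Finsupp.sum_fintype _ _ (by simp)] at h'
    simpa [Finsupp.finsetSum_apply, Finsupp.single_apply, (he j).ne'] using h'

/-- The grading homomorphism `a ↦ a * u i` for `a ∈ 𝒜 i`. -/
noncomputable def twist {B : Type u} [CommRing B] [Algebra k B] (f : R →ₐ[k] B) (u : ℤ → B)
    (h0 : u 0 = 1) (hadd : ∀ i j, u (i + j) = u i * u j) : R →ₐ[k] B :=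
  (DirectSum.toAlgebra k (fun i => 𝒜 i)
    (fun i => ((LinearMap.mulRight k (u i)).comp f.toLinearMap).comp (𝒜 i).subtype)
    (by simp [h0, SetLike.coe_gOne])
    (fun {i j} a b => by simp [SetLike.coe_gMul, hadd]; ring)).comp
    (DirectSum.decomposeAlgEquiv 𝒜).toAlgHom

lemma twist_of_mem {B : Type u} [CommRing B] [Algebra k B] (f : R →ₐ[k] B) (u : ℤ → B)
    (h0 : u 0 = 1) (hadd : ∀ i j, u (i + j) = u i * u j) {i : ℤ} {a : R} (ha : a ∈ 𝒜 i) :
    twist 𝒜 f u h0 hadd a = f a * u i := by
  simp [twist, DirectSum.decomposeAlgEquiv_apply, DirectSum.decompose_of_mem 𝒜 ha,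
    DirectSum.toAlgebra]

end Graded

end Groth.GrSegreDim
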