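import Mathlib
import Groth.Agent.GrSegreDim.Basic

/-! Degree-zero part of a tensor product of positively graded algebras. Author: helper54. -/

set_option autoImplicit false
universe u

open MvPolynomial TensorProduct

namespace Groth.GrSegreDim

/-- Solutions of `Σ d i * D i = 0` in `σ →₀ ℕ` form a finitely generated monoid. -/
lemma exists_finite_gens {σ : Type*} [Fintype σ] (D : σ → ℤ) :
    ∃ G : Finset (σ →₀ ℕ), (∀ e ∈ G, ∑ i, (e i : ℤ) * D i = 0) ∧
      ∀ d : σ →₀ ℕ, ∑ i, (d i : ℤ) * D i = 0 → d ∈ AddSubmonoid.closure (G : Set (σ →₀ ℕ)) := by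
  classical
  let S : Set (σ →₀ ℕ) := {d | ∑ i, (d i : ℤ) * D i = 0 ∧ d ≠ 0}
  have hfin : {e | Minimal (· ∈ S) e}.Finite :=
    IsAntichain.finite_of_wellQuasiOrdered (setOfPred_minimal_antichain _) wellQuasiOrdered_le
  refine ⟨hfin.toFinset, fun e he => (hfin.mem_toFinset.mp he).prop.1, ?_⟩
  intro d
  induction d using WellFoundedLT.induction with
  | _ d ih =>
    intro hd
    by_cases h0 : d = 0
    · subst h0; exact zero_mem _
    obtain ⟨e, hed, he⟩ := exists_minimal_le_of_wellFoundedLT (· ∈ S) d ⟨hd, h0⟩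
    obtain ⟨c, rfl⟩ := exists_add_of_le hed
    have hc : ∑ i, (c i : ℤ) * D i = 0 := by
      have := he.prop.1
      simp only [Finsupp.add_apply, Nat.cast_add, add_mul, Finset.sum_add_distrib] at hd
      omega
    refine add_mem (AddSubmonoid.subset_closure (hfin.mem_toFinset.mpr he)) (ih c ?_ hc)
    exact lt_of_le_of_ne le_add_self fun h => he.prop.2 (add_eq_right.mp h.symm)

variable {k : Type u} [Field k] {R : Type u} [CommRing R] [Algebra k R]
  {S : Type u} [CommRing S] [Algebra k S]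

lemma indep_tmul {ι κ : Type*} {x : ι → R} {y : κ → S} (hx : AlgebraicIndependent k x)
    (hy : AlgebraicIndependent k y) :
    AlgebraicIndependent k (Sum.elim (fun i => x i ⊗ₜ[k] (1 : S)) fun j => (1 : R) ⊗ₜ[k] y j) := by
  let e : MvPolynomial (ι ⊕ κ) k →ₐ[k] MvPolynomial ι k ⊗[k] MvPolynomial κ k :=
    aeval (Sum.elim (fun i => X i ⊗ₜ[k] 1) fun j => 1 ⊗ₜ[k] X j)
  let ψ : MvPolynomial ι k ⊗[k] MvPolynomial κ k →ₐ[k] MvPolynomial (ι ⊕ κ) k :=
    Algebra.TensorProduct.productMap (rename Sum.inl) (rename Sum.inr)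
  have hψe : ψ.comp e = AlgHom.id k _ := MvPolynomial.algHom_ext fun i => by
    cases i <;> simp [e, ψ]
  have he : Function.Injective e :=
    Function.LeftInverse.injective (g := ψ) fun p => AlgHom.congr_fun hψe p
  rw [algebraicIndependent_iff_injective_aeval]
  have : aeval (Sum.elim (fun i => x i ⊗ₜ[k] (1 : S)) fun j => (1 : R) ⊗ₜ[k] y j) =
      (Algebra.TensorProduct.map (aeval x) (aeval y)).comp e :=
    MvPolynomial.algHom_ext fun i => by cases i <;> simp [e]
  rw [this, AlgHom.coe_comp]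
  refine Function.Injective.comp ?_ he
  exact TensorProduct.map_injective_of_flat_flat _ _ (algebraicIndependent_iff_injective_aeval.mp hx)
    (algebraicIndependent_iff_injective_aeval.mp hy)

lemma dim_tensor_le {m n : ℕ} (g : MvPolynomial (Fin m) k →ₐ[k] R) (hg : g.IsIntegral)
    (h : MvPolynomial (Fin n) k →ₐ[k] S) (hh : h.IsIntegral) :
    ringKrullDim (R ⊗[k] S) ≤ ((m + n : ℕ) : WithBot ℕ∞) := by
  let φ : MvPolynomial (Fin m ⊕ Fin n) k →ₐ[k] R ⊗[k] S :=
    aeval (Sum.elim (fun i => g (X i) ⊗ₜ[k] (1 : S)) fun j => (1 : R) ⊗ₜ[k] h (X j))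
  have h1 : ∀ a : R, φ.toRingHom.IsIntegralElem (a ⊗ₜ[k] (1 : S)) := fun a => by
    obtain ⟨p, hp, hpa⟩ := hg a
    refine ⟨p.map (rename Sum.inl).toRingHom, hp.map _, ?_⟩
    have hc : φ.toRingHom.comp (rename Sum.inl).toRingHom =
        (Algebra.TensorProduct.includeLeft : R →ₐ[k] R ⊗[k] S).toRingHom.comp g.toRingHom :=
      congrArg AlgHom.toRingHom (MvPolynomial.algHom_ext (f := φ.comp (rename Sum.inl))
        (g := (Algebra.TensorProduct.includeLeft : R →ₐ[k] R ⊗[k] S).comp g) fun i => by simp [φ])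
    rw [Polynomial.eval₂_map, hc, show a ⊗ₜ[k] (1 : S) =
      (Algebra.TensorProduct.includeLeft : R →ₐ[k] R ⊗[k] S).toRingHom a from rfl,
      ← Polynomial.hom_eval₂, hpa, map_zero]
  have h2 : ∀ b : S, φ.toRingHom.IsIntegralElem ((1 : R) ⊗ₜ[k] b) := fun b => by
    obtain ⟨p, hp, hpb⟩ := hh b
    refine ⟨p.map (rename Sum.inr).toRingHom, hp.map _, ?_⟩
    have hc : φ.toRingHom.comp (rename Sum.inr).toRingHom =
        (Algebra.TensorProduct.includeRight : S →ₐ[k] R ⊗[k] S).toRingHom.comp h.toRingHom :=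
      congrArg AlgHom.toRingHom (MvPolynomial.algHom_ext (f := φ.comp (rename Sum.inr))
        (g := (Algebra.TensorProduct.includeRight : S →ₐ[k] R ⊗[k] S).comp h) fun i => by simp [φ])
    rw [Polynomial.eval₂_map, hc, show (1 : R) ⊗ₜ[k] b =
      (Algebra.TensorProduct.includeRight : S →ₐ[k] R ⊗[k] S).toRingHom b from rfl,
      ← Polynomial.hom_eval₂, hpb, map_zero]
  algebraize [φ.toRingHom]
  have : Algebra.IsIntegral (MvPolynomial (Fin m ⊕ Fin n) k) (R ⊗[k] S) := ⟨fun z => by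
    induction z using TensorProduct.induction_on with
    | zero => exact isIntegral_zero
    | tmul a b =>
      rw [show a ⊗ₜ[k] b = (a ⊗ₜ[k] (1 : S)) * ((1 : R) ⊗ₜ[k] b) by simp]
      exact IsIntegral.mul (h1 a) (h2 b)
    | add p q hp hq => exact IsIntegral.add hp hq⟩
  refine le_trans (Order.krullDim_le_of_strictMono
    (PrimeSpectrum.comap (algebraMap (MvPolynomial (Fin m ⊕ Fin n) k) (R ⊗[k] S)))
    fun p q hpq => Ideal.IsIntegral.comap_lt_comap (I := p.asIdeal) (J := q.asIdeal) hpq) ?_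
  rw [← ringKrullDim, MvPolynomial.ringKrullDim_of_isNoetherianRing, ringKrullDim_eq_zero_of_field]
  simp

end Groth.GrSegreDim
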